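import Groth.Agent.AlgStB.InertiaDiag
import Groth.Agent.AlgStB.DiagComp
import Groth.Agent.AlgStB.TargetDescent
import Groth.Agent.S10649
import Groth.Prelude.Def_StCoarse

/-!
# Finite inertia from a separated morphism to a space
-/

set_option autoImplicit false
set_option linter.style.haveILetI false
set_option backward.isDefEq.respectTransparency false
set_option backward.isDefEq.respectTransparency.types false

universe u

open CategoryTheory CategoryTheory.Limits AlgebraicGeometry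

namespace Groth.Agent.CoarseInertia

open _root_.AlgSp

variable {S : Scheme.{u}} {𝒳 : AlgSt.Cat S} {M : Sp S} (π : 𝒳 ⥤ᵇ AlgSt.ofSp M)

theorem p_map_eq {x : 𝒳.obj} (α : x ⟶ x) (h : π.map α = 𝟙 _) : 𝒳.p.map α = 𝟙 _ := by
  have h₁ : (π.map α).hom = _ := Fib.w_map π α
  rw [h] at h₁
  have h₂ : 𝟙 (π.obj x).base = eqToHom (π.w_obj x) ≫ 𝒳.p.map α ≫ eqToHom (π.w_obj x).symm := h₁
  have := congrArg (fun k => eqToHom (π.w_obj x).symm ≫ k ≫ eqToHom (π.w_obj x)) h₂
  simpa using this.symm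

theorem map_eq {x : 𝒳.obj} (α : x ⟶ x) (h : 𝒳.p.map α = 𝟙 _) : π.map α = 𝟙 _ := by
  apply Stk.EltObj.hom_ext
  have h₁ : (π.map α).hom = _ := Fib.w_map π α
  rw [h₁, h]
  simp

/-- Inertia over a space and inertia over the base agree. -/
theorem exists_equiv :
    ∃ E : FibCat.inertia π ⥤ᵇ FibCat.inertia (FibCat.toSelf 𝒳), FibCat.IsEquivOver E ∧
      Nonempty (BasedFunctor.comp (FibCat.inertiaToBase π) (BasedFunctor.id 𝒳) ≅
        BasedFunctor.comp E (FibCat.inertiaToBase (FibCat.toSelf 𝒳))) := by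
  let E : FibCat.inertia π ⥤ᵇ FibCat.inertia (FibCat.toSelf 𝒳) :=
    { toFunctor :=
        { obj := fun x => ⟨x.pt, x.aut, p_map_eq π x.aut.hom x.map_aut⟩
          map := fun f => ⟨f.hom, f.comm⟩ }
      w := rfl }
  let G : FibCat.inertia (FibCat.toSelf 𝒳) ⥤ᵇ FibCat.inertia π :=
    { toFunctor :=
        { obj := fun x => ⟨x.pt, x.aut, map_eq π x.aut.hom x.map_aut⟩
          map := fun f => ⟨f.hom, f.comm⟩ }
      w := rfl }
  exact ⟨E, ⟨G, ⟨eqToIso rfl⟩, ⟨eqToIso rfl⟩⟩, ⟨eqToIso rfl⟩⟩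

/-- A separated morphism to a space from a quasi-DM stack has source with finite inertia. -/
theorem finite_inertia (hsep : AlgSt.IsSeparatedMor π) (hqf : AlgSt.IsQuasiDMOver 𝒳) :
    AlgSt.RepByAlgSpWith IsFiniteMor (FibCat.inertiaToBase (FibCat.toSelf 𝒳)) := by
  obtain ⟨E, hE, ⟨e⟩⟩ := exists_equiv π
  have hp : AlgSt.RepByAlgSpWith IsProperMor (FibCat.inertiaToBase (FibCat.toSelf 𝒳)) :=
    (AlgStB.repByAlgSpWith_iff_of_square (FibCat.inertiaToBase (FibCat.toSelf 𝒳)) (FibCat.inertiaToBase π)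
      E (BasedFunctor.id _) hE (Fib.isEquivOver_id _) e).2
      ((AlgStB.repByAlgSpWith_inertiaToBase_iff π).2 (AlgStB.repByAlgSpWith_fpFst _ _ hsep))
  have hq : AlgSt.RepByAlgSpWith (LocP (@LocallyQuasiFinite ⊓ @LocallyOfFiniteType))
      (FibCat.inertiaToBase (FibCat.toSelf 𝒳)) :=
    (AlgStB.repByAlgSpWith_inertiaToBase_iff (FibCat.toSelf 𝒳)).2
      (AlgStB.repByAlgSpWith_fpFst _ _ hqf)
  intro U y
  obtain ⟨F, e', he', hm⟩ := AlgStB.repByAlgSpWith_inf hp hq U y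
  exact ⟨F, e', he', ((Groth.Agent.S10649.result (X := F) (Y := ⟨(yon S).obj U, IsAlgSpace.yon_obj U⟩)
    (ObjectProperty.homMk (AlgSt.spMapOfOver (BasedFunctor.comp e' (FibCat.fpFst y _))))).out 1 0).1 hm⟩

end Groth.Agent.CoarseInertia
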