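import Groth.Agent.CoarseInertia.PullInertia
import Groth.Agent.WNA.Separated
import Groth.Agent.AlgStB.CoverDescent
import Groth.Agent.AlgStB.PointsTop

/-!
# Finite inertia from etale local covers
-/

set_option autoImplicit false
set_option linter.style.haveILetI false
set_option backward.isDefEq.respectTransparency false
set_option backward.isDefEq.respectTransparency.types false

universe u

open CategoryTheory CategoryTheory.Limits AlgebraicGeometry

namespace Groth.Agent.CoarseInertia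

open Groth.Agent.AlgStB
open _root_.AlgSp (Sp IsAlgSpace IsFiniteMor LocP yon IsEtaleMor IsFppfCover)
open _root_.AlgSt (Points)

noncomputable section

variable {S : Scheme.{u}}

/-- Finiteness of the inertia is local for etale covers preserving stabilisers. -/
theorem finite_inertia_of_local {𝒳 : AlgSt.Cat S} (h𝒳 : AlgSt.IsAlgStack Scheme.fppfPrecoverage 𝒳)
    (hΔ : AlgSt.RepByAlgSpWith (_root_.AlgSp.IsSeparatedMor ⊓ _root_.AlgSp.IsQuasiCompactMor)
      (FibCat.diag (FibCat.toSelf 𝒳)))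
    (hqf : AlgSt.IsQuasiDMOver 𝒳)
    (hloc : ∀ x : Points 𝒳, ∃ (𝒰 : AlgSt.Cat S) (h : 𝒰 ⥤ᵇ 𝒳),
      AlgSt.IsAlgStack Scheme.fppfPrecoverage 𝒰 ∧ x ∈ Set.range (Points.map h) ∧
      AlgSt.RepByAlgSpWith IsEtaleMor h ∧
      AlgSt.RepByAlgSpWith IsFiniteMor (FibCat.fpFst h (FibCat.inertiaToBase (FibCat.toSelf 𝒳)))) :
    AlgSt.RepByAlgSpWith IsFiniteMor (FibCat.inertiaToBase (FibCat.toSelf 𝒳)) := by
  have hf : AlgSt.RepByAlgSp1 (FibCat.inertiaToBase (FibCat.toSelf 𝒳)) :=
    repByAlgSp1_of_with ((repByAlgSpWith_inertiaToBase_iff (FibCat.toSelf 𝒳)).2 (repByAlgSpWith_fpFst _ _ hΔ))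
  refine repByAlgSpWith_of_local respectsSrcIso_of_respectsIso
    (isLocalOnBase_fppf_of_fpqc AlgSpLoc.isLocalOnBase_finite) _ hf fun U y => ?_
  choose 𝒰 h h𝒰 hx he hfin using fun v : ↥U.left => hloc (Points.ofChart y v)
  choose T k τ hi hp hk hks using fun v : ↥U.left =>
    exists_cover_point (h𝒰 v).isStack.1 h𝒳.isStack.1 (h v) (repByAlgSp1_of_with (he v)) y
  have het : ∀ v, Etale (k v).left := fun v =>
    hk v @Etale (fun W z => by
      obtain ⟨F, e, he', hm⟩ := he v W z
      exact ⟨F, e, he', (AlgSpc.isEtaleMor_iff_locP F.property (IsAlgSpace.yon_obj W)).1 hm⟩)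
  refine ⟨↥U.left, T, k, isFppfCover_map T k (fun v => haveI := het v; inferInstance)
    (fun v => haveI := het v; inferInstance) (fun v => ?_), fun v =>
      exists_rep_of_lift (hfin v) _ (τ v) (hi v).some⟩
  obtain ⟨z, hz⟩ := hx v
  obtain ⟨t, ht, -⟩ := hp v v z hz
  exact ⟨v, t, ht⟩

end

end Groth.Agent.CoarseInertia
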