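import Groth.Agent.CoarseInertia.SurjCancel
import Groth.Agent.CoarseInertia.Basic
import Groth.Agent.AlgStB.Points
import Groth.Agent.Fib.Setoid
import Groth.Prelude.Def_StGerb2
import Mathlib.FieldTheory.IsAlgClosed.AlgebraicClosure

/-!
# Finiteness of the pulled back inertia along a stabiliser-surjective morphism
-/

set_option autoImplicit false
set_option linter.style.haveILetI false
set_option backward.isDefEq.respectTransparency false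
set_option backward.isDefEq.respectTransparency.types false

universe u

open CategoryTheory CategoryTheory.Limits AlgebraicGeometry

namespace Groth.Agent.CoarseInertia

open Groth.Agent.AlgStB
open _root_.AlgSp (Sp IsAlgSpace IsSurjectiveMor IsUnivClosedMor IsFiniteMor IsProperMor LocP yon)
open _root_.AlgSt (Points FPt)

noncomputable section

variable {S : Scheme.{u}} {𝒰 𝒳 : AlgSt.Cat S} (h : 𝒰 ⥤ᵇ 𝒳)

/-- The map on inertia of the base. -/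
def inertiaMap : FibCat.inertia (FibCat.toSelf 𝒰) ⥤ᵇ FibCat.inertia (FibCat.toSelf 𝒳) where
  toFunctor :=
    { obj := fun x => ⟨h.obj x.pt, h.toFunctor.mapIso x.aut, by
        change 𝒳.p.map (h.map x.aut.hom) = _
        rw [Fib.w_map h x.aut.hom, show 𝒰.p.map x.aut.hom = 𝟙 _ from x.map_aut]
        simp
        rfl⟩
      map := fun {a b} f => ⟨h.map f.hom, by
        change h.map a.aut.hom ≫ h.map f.hom = h.map f.hom ≫ h.map b.aut.hom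
        rw [← h.toFunctor.map_comp, f.comm, h.toFunctor.map_comp]⟩
      map_id := fun a => FibCat.InertiaObj.hom_ext (h.toFunctor.map_id a.pt)
      map_comp := fun f g => FibCat.InertiaObj.hom_ext (h.toFunctor.map_comp f.hom g.hom) }
  w := by
    change (FibCat.InertiaObj.forget ⋙ h.toFunctor) ⋙ 𝒳.p = FibCat.InertiaObj.forget ⋙ 𝒰.p
    rw [Functor.assoc, h.w]

/-- The inertia of the source maps to the pulled back inertia of the target. -/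
def toPull : FibCat.inertia (FibCat.toSelf 𝒰) ⥤ᵇ
    FibCat.fp h (FibCat.inertiaToBase (FibCat.toSelf 𝒳)) :=
  FibCat.fpLift (FibCat.inertiaToBase (FibCat.toSelf 𝒰)) (inertiaMap h) (eqToIso rfl)

theorem isSurjective_toPull (h𝒳 : FibCat.IsFibGrpd 𝒳.p) (h𝒰 : FibCat.IsFibGrpd 𝒰.p)
    (hsurj : ∀ (Ω : Type u) [Field Ω] [IsAlgClosed Ω] (t : Spec (CommRingCat.of Ω) ⟶ S)
      (u : 𝒰.p.Fiber (Over.mk t)), Function.Surjective (Gerb.autMap h u.1)) :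
    AlgSt.IsSurjective (toPull h) := by
  intro P
  obtain ⟨q, rfl⟩ := Points.mk_surjective P
  haveI := Fib.isFibered_of_isFibGrpd _ h𝒳
  have hJ : FibCat.IsFibGrpd (FibCat.fp h (FibCat.inertiaToBase (FibCat.toSelf 𝒳))).p :=
    Fib.isFibGrpd_fp _ _ h𝒰 (Fib.isFibGrpd_inertia _ h𝒳
      (Fib.preservesStronglyCartesian _ Fib.isFibGrpd_selfOver)) h𝒳
  let w : Spec (CommRingCat.of (AlgebraicClosure q.K)) ⟶ S :=
    Spec.map (CommRingCat.ofHom (algebraMap q.K (AlgebraicClosure q.K))) ≫ q.str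
  obtain ⟨a, φ, ha, -⟩ := exists_restrict hJ q
    (Over.homMk (Spec.map (CommRingCat.ofHom (algebraMap q.K (AlgebraicClosure q.K)))) rfl :
      (Over.mk w : Over S) ⟶ Over.mk q.str)
  rw [← mk_eq_of_hom (p := ⟨AlgebraicClosure q.K, w, a, ha⟩) (q := q) φ]
  obtain ⟨⟨u, η, i⟩, hi⟩ := a
  obtain ⟨y, α, hα⟩ := η
  have hu : 𝒰.p.obj u = Over.mk w := ha
  haveI : 𝒳.p.IsHomLift (𝟙 (𝒰.p.obj u)) i.hom := hi
  haveI : 𝒳.p.IsHomLift (𝟙 (𝒰.p.obj u)) i.inv := inferInstance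
  have hy : 𝒳.p.obj y = 𝒰.p.obj u := IsHomLift.codomain_eq 𝒳.p (𝟙 (𝒰.p.obj u)) i.hom
  haveI : 𝒳.p.IsHomLift (𝟙 (𝒰.p.obj u)) α.hom :=
    IsHomLift.of_fac' _ _ _ hy hy (by
      rw [show 𝒳.p.map α.hom = 𝟙 _ from hα]
      simp)
  haveI : 𝒳.p.IsHomLift (𝟙 (𝒰.p.obj u)) α.inv := inferInstance
  let g : h.obj u ≅ h.obj u := i ≪≫ α ≪≫ i.symm
  haveI hg : 𝒳.p.IsHomLift (𝟙 (𝒰.p.obj u)) g.hom := by
    have : 𝒳.p.IsHomLift (𝟙 (𝒰.p.obj u) ≫ 𝟙 _ ≫ 𝟙 _) (i.hom ≫ α.hom ≫ i.inv) := inferInstance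
    simpa [g] using this
  haveI : 𝒳.p.IsHomLift (𝟙 (𝒰.p.obj u)) g.inv := inferInstance
  have hid : ∀ (f : h.obj u ⟶ h.obj u), 𝒳.p.IsHomLift (𝟙 (𝒰.p.obj u)) f →
      𝒳.p.IsHomLift (𝟙 (𝒳.p.obj (h.obj u))) f := fun f hf => by
    rw [h.w_obj u]
    exact hf
  let γ : Gerb.AutO (h.obj u) :=
    { hom := ⟨g.hom, hid _ hg⟩
      inv := ⟨g.inv, hid _ inferInstance⟩
      hom_inv_id := Subtype.ext g.hom_inv_id
      inv_hom_id := Subtype.ext g.inv_hom_id }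
  obtain ⟨β, hβ⟩ := hsurj (AlgebraicClosure q.K) w ⟨u, hu⟩ γ
  have hβ' : h.map β.hom.1 = g.hom := congrArg (fun t : Gerb.AutO (h.obj u) => t.hom.1) hβ
  let βi : u ≅ u := ⟨β.hom.1, β.inv.1, congrArg Subtype.val β.hom_inv_id,
    congrArg Subtype.val β.inv_hom_id⟩
  let ξ : FibCat.InertiaObj (FibCat.toSelf 𝒰) := ⟨u, βi, by
    haveI := β.hom.2
    change 𝒰.p.map β.hom.1 = 𝟙 _
    rw [IsHomLift.fac' 𝒰.p (𝟙 (𝒰.p.obj u)) β.hom.1]
    simp⟩
  refine ⟨Points.mk ⟨AlgebraicClosure q.K, w, ξ, hu⟩, ?_⟩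
  rw [Points.map_mk]
  refine mk_eq_of_hom (p := FPt.map (toPull h) ⟨AlgebraicClosure q.K, w, ξ, hu⟩) (q := _) ?_
  refine Fib.fpHomMk (𝟙 u) ⟨i.hom, ?_⟩ ?_
  · change h.map β.hom.1 ≫ i.hom = i.hom ≫ α.hom
    rw [hβ']
    simp [g]
  · change h.map (𝟙 u) ≫ i.hom = 𝟙 (h.obj u) ≫ i.hom
    rw [h.toFunctor.map_id]

/-- The pulled back inertia is finite. -/
theorem finite_fpFst_inertia (h𝒳 : AlgSt.IsAlgStack Scheme.fppfPrecoverage 𝒳)
    (h𝒰 : AlgSt.IsAlgStack Scheme.fppfPrecoverage 𝒰)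
    (hΔ : AlgSt.RepByAlgSpWith (_root_.AlgSp.IsSeparatedMor ⊓ _root_.AlgSp.IsQuasiCompactMor)
      (FibCat.diag (FibCat.toSelf 𝒳)))
    (hqf : AlgSt.IsQuasiDMOver 𝒳) (hsep : AlgSt.IsSeparatedOver 𝒰)
    (hsurj : ∀ (Ω : Type u) [Field Ω] [IsAlgClosed Ω] (t : Spec (CommRingCat.of Ω) ⟶ S)
      (u : 𝒰.p.Fiber (Over.mk t)), Function.Surjective (Gerb.autMap h u.1)) :
    AlgSt.RepByAlgSpWith IsFiniteMor
      (FibCat.fpFst h (FibCat.inertiaToBase (FibCat.toSelf 𝒳))) := by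
  haveI := Fib.isFibered_of_isFibGrpd _ h𝒳.isStack.1
  haveI := Fib.isFibered_of_isFibGrpd _ h𝒰.isStack.1
  let p := FibCat.fpFst h (FibCat.inertiaToBase (FibCat.toSelf 𝒳))
  have hq : AlgSt.RepByAlgSpWith (LocP (@LocallyQuasiFinite ⊓ @LocallyOfFiniteType)) p :=
    repByAlgSpWith_fpFst (FibCat.inertiaToBase (FibCat.toSelf 𝒳)) h
      ((repByAlgSpWith_inertiaToBase_iff (FibCat.toSelf 𝒳)).2 (repByAlgSpWith_fpFst _ _ hqf))
  have hs : AlgSt.RepByAlgSpWith (_root_.AlgSp.IsSeparatedMor ⊓ _root_.AlgSp.IsQuasiCompactMor) p :=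
    repByAlgSpWith_fpFst (FibCat.inertiaToBase (FibCat.toSelf 𝒳)) h
      ((repByAlgSpWith_inertiaToBase_iff (FibCat.toSelf 𝒳)).2 (repByAlgSpWith_fpFst _ _ hΔ))
  have hU : AlgSt.RepByAlgSpWith IsUnivClosedMor
      (BasedFunctor.comp (toPull h) p) :=
    repByAlgSpWith_of_iso (eqToIso rfl)
      (repByAlgSpWith_mono (fun _ _ _ hf => hf.2.2)
        ((repByAlgSpWith_inertiaToBase_iff (FibCat.toSelf 𝒰)).2 (repByAlgSpWith_fpFst _ _ hsep)))
  have hI : FibCat.IsFibGrpd (FibCat.inertia (FibCat.toSelf 𝒰)).p := Fib.isFibGrpd_inertia _ h𝒰.isStack.1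
      (Fib.preservesStronglyCartesian _ Fib.isFibGrpd_selfOver)
  have hJ : FibCat.IsFibGrpd (FibCat.fp h (FibCat.inertiaToBase (FibCat.toSelf 𝒳))).p :=
    Fib.isFibGrpd_fp _ _ h𝒰.isStack.1 (Fib.isFibGrpd_inertia _ h𝒳.isStack.1
      (Fib.preservesStronglyCartesian _ Fib.isFibGrpd_selfOver)) h𝒳.isStack.1
  have hrs : AlgSt.RepByAlgSpWith IsSurjectiveMor (toPull h) :=
    repWith_surjective_of_isSurjective hI hJ _
      (repByAlgSp1_of_comp hI hJ h𝒰.isStack.1 (repByAlgSp1_of_with hU)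
        (repByAlgSp1_of_with (isMono_diag _ (repByAlgSp1_of_with hs))))
      (isSurjective_toPull h h𝒳.isStack.1 h𝒰.isStack.1 hsurj)
  have huc : AlgSt.RepByAlgSpWith IsUnivClosedMor p :=
    repByAlgSpWith_univClosed_of_comp hI hJ (repByAlgSp1_of_with hs) hrs hU
  intro U y
  obtain ⟨F, e, he, hsq, hlq, hu⟩ := repByAlgSpWith_inf_self hs hq huc U y
  obtain ⟨hs', hqc⟩ := hsq
  let φ : F.obj ⟶ (yon S).obj U := AlgSt.spMapOfOver (BasedFunctor.comp e (FibCat.fpFst y p))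
  have hlft : LocP @LocallyOfFiniteType φ := AlgSpc.locP_mono (fun _ _ _ hk => hk.2) hlq
  refine ⟨F, e, he, ((Groth.Agent.S10649.result (X := F) (Y := ⟨(yon S).obj U, IsAlgSpace.yon_obj U⟩)
    (ObjectProperty.homMk φ)).out 1 0).1 ?_⟩
  exact ⟨⟨hs', ⟨hlft, hqc⟩, hu⟩, hlq⟩

end

end Groth.Agent.CoarseInertia
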