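import Groth.Agent.AlgStB.SourceLocal
import Groth.Agent.AlgStB.DiagSep
import Groth.Agent.AlgSpc.More

/-!
# Universal closedness descends along surjections of representable 1-morphisms
-/

set_option autoImplicit false
set_option backward.isDefEq.respectTransparency false
set_option backward.isDefEq.respectTransparency.types false

universe u

open CategoryTheory CategoryTheory.Limits AlgebraicGeometry Opposite

namespace Groth.Agent.CoarseInertia

open Groth.Agent.AlgStB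
open _root_.AlgSp (Sp IsAlgSpace IsSurjectiveMor IsUnivClosedMor yon Space)

noncomputable section

variable {S : Scheme.{u}} {𝒳 𝒴 𝒵 : AlgSt.Cat S}

/-- A representable 1-morphism is universally closed if its composite with a surjection is. -/
theorem repByAlgSpWith_univClosed_of_comp (h𝒳 : FibCat.IsFibGrpd 𝒳.p) (h𝒴 : FibCat.IsFibGrpd 𝒴.p)
    {x : 𝒳 ⥤ᵇ 𝒴} {y : 𝒴 ⥤ᵇ 𝒵} (hy : AlgSt.RepByAlgSp1 y)
    (hxs : AlgSt.RepByAlgSpWith IsSurjectiveMor x)
    (h : AlgSt.RepByAlgSpWith IsUnivClosedMor (BasedFunctor.comp x y)) :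
    AlgSt.RepByAlgSpWith IsUnivClosedMor y := by
  intro U z
  obtain ⟨F₁, e₁, he₁⟩ := hy U z
  obtain ⟨W, e₂, π, he₂, ⟨k⟩, hπ⟩ := exists_fp_ofSp' h𝒳 h𝒴 respectsSrcIso_isSurjectiveMor hxs
    F₁.property (BasedFunctor.comp e₁ (FibCat.fpSnd z y))
  obtain ⟨_, _⟩ := id_full_faithful 𝒴
  let M := Fib.fpMap e₁ (BasedFunctor.id 𝒳) (BasedFunctor.id 𝒴)
      (F' := BasedFunctor.comp e₁ (FibCat.fpSnd z y)) (G' := x) (F := FibCat.fpSnd z y) (G := x)
      (Iso.refl _) (Iso.refl _)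
  let e : AlgSt.ofSp W.obj ⥤ᵇ FibCat.fp z (BasedFunctor.comp x y) :=
    BasedFunctor.comp e₂ (BasedFunctor.comp M (Fib.fpAssoc z y x))
  have he : FibCat.IsEquivOver e := Fib.isEquivOver_comp he₂ (Fib.isEquivOver_comp
      (Fib.isEquivOver_fpMap _ _ _ _ _ he₁ (Fib.isEquivOver_id _))
      (Fib.isEquivOver_fpAssoc z y x))
  let φ := AlgSt.spMapOfOver (BasedFunctor.comp e₁ (FibCat.fpFst z y))
  refine ⟨F₁, e₁, he₁, ?_⟩
  obtain ⟨G, e₃, he₃, hG⟩ := h U z
  obtain ⟨i, ⟨j⟩⟩ := exists_iso_of_reps e e₃ he he₃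
  have hcomp : IsUnivClosedMor (π ≫ φ) := by
    have h₁ : AlgSt.spMapOfOver (BasedFunctor.comp e (FibCat.fpFst z (BasedFunctor.comp x y))) =
        π ≫ φ :=
      spMapOfOver_congr (Fib.isoWhiskerRight k (BasedFunctor.comp e₁ (FibCat.fpFst z y)))
    have h₂ : AlgSt.spMapOfOver (BasedFunctor.comp e (FibCat.fpFst z (BasedFunctor.comp x y))) =
        i.hom ≫ AlgSt.spMapOfOver (BasedFunctor.comp e₃ (FibCat.fpFst z (BasedFunctor.comp x y))) := by
      rw [← spMapOfOver_congr (Fib.isoWhiskerRight j (FibCat.fpFst z _))]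
      rfl
    rw [← h₁, h₂]
    exact (MorphismProperty.cancel_left_of_respectsIso IsUnivClosedMor i.hom _).2 hG
  exact AlgSpc.univClosed_of_surjective rfl hcomp (isSurjectiveMor_of_forall_pullback π hπ)

end

end Groth.Agent.CoarseInertia
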